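import Mathlib

/-!
Certified evaluation of words in sparse matrices: a row of the product is packed into one natural number,
whose digits are the entries as long as the base exceeds the product of the row sums.
-/

set_option autoImplicit false

namespace Cfsg.Agent.FischerLinear

/-- The sum of the weights of a sparse row. -/
def wsum (row : List (ℕ × ℕ)) : ℕ := (row.map Prod.snd).sum

/-- A sparse row applied to packed rows. -/
def rowApp (row : List (ℕ × ℕ)) (X : List ℕ) : ℕ := (row.map fun p => p.2 * X.getD p.1 0).sum

/-- A sparse matrix applied to packed rows. -/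
def matApp (g : List (List (ℕ × ℕ))) (X : List ℕ) : List ℕ := g.map fun row => rowApp row X

/-- Every row has weight at most `R` and all columns are below `n`. -/
def okMat (n R : ℕ) (g : List (List (ℕ × ℕ))) : Bool :=
  g.length == n && g.all fun row => Nat.ble (wsum row) R && row.all fun p => decide (p.1 < n)

/-- The packed rows of a word. -/
def pword (n B : ℕ) (gs : List (List (List (ℕ × ℕ)))) (w : List ℕ) : List ℕ :=
  w.foldr (fun a X => matApp (gs.getD a []) X) ((List.range n).map fun i => B ^ i)

/-- The packed rows are those of the identity modulo `p`. -/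
def isOne (n p B : ℕ) (X : List ℕ) : Bool :=
  (List.range n).all fun i => (List.range n).all fun j =>
    X.getD i 0 / B ^ j % B % p == if i = j then 1 % p else 0

/-- The word is the identity modulo `p`. -/
def checkWord (n p R : ℕ) (gs : List (List (List (ℕ × ℕ)))) (w : List ℕ) : Bool :=
  isOne n p (R ^ w.length + 1) (pword n (R ^ w.length + 1) gs w)

/-- The entries of a sparse row. -/
def rowFun (n : ℕ) (row : List (ℕ × ℕ)) (j : Fin n) : ℕ :=
  (row.map fun p => if p.1 = (j : ℕ) then p.2 else 0).sum

/-- The matrix of a sparse list of rows. -/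
def natMat (n : ℕ) (g : List (List (ℕ × ℕ))) : Matrix (Fin n) (Fin n) ℕ :=
  Matrix.of fun i j => rowFun n (g.getD i []) j

theorem sum_rowFun_mul {n : ℕ} (row : List (ℕ × ℕ)) (h : ∀ p ∈ row, p.1 < n) (v : ℕ → ℕ) :
    ∑ j : Fin n, rowFun n row j * v j = (row.map fun p => p.2 * v p.1).sum := by
  induction row with
  | nil => simp [rowFun]
  | cons p row ih =>
    have hp := h p (List.mem_cons_self ..)
    have e : ∀ j : Fin n, rowFun n (p :: row) j = (if p.1 = (j : ℕ) then p.2 else 0) + rowFun n row j :=
      fun j => by simp [rowFun]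
    simp only [e, add_mul, Finset.sum_add_distrib, List.map_cons, List.sum_cons]
    rw [ih fun q hq => h q (List.mem_cons_of_mem _ hq)]
    congr 1
    rw [Finset.sum_eq_single ⟨p.1, hp⟩]
    · simp
    · intro j _ hj
      have : p.1 ≠ (j : ℕ) := fun hh => hj (Fin.ext hh.symm)
      simp [this]
    · simp

/-- The natural matrix of a word. -/
def natWord (n : ℕ) (gs : List (List (List (ℕ × ℕ)))) (w : List ℕ) : Matrix (Fin n) (Fin n) ℕ :=
  (w.map fun a => natMat n (gs.getD a [])).prod

theorem okMat_iff {n R : ℕ} {g : List (List (ℕ × ℕ))} (h : okMat n R g = true) :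
    g.length = n ∧ ∀ row ∈ g, wsum row ≤ R ∧ ∀ p ∈ row, p.1 < n := by
  simpa [okMat, List.all_eq_true] using h

theorem natMat_mul_sum {n R : ℕ} {g : List (List (ℕ × ℕ))} (hg : okMat n R g = true) (i : Fin n)
    (v : ℕ → ℕ) : ∑ j : Fin n, natMat n g i j * v j = ((g.getD i []).map fun p => p.2 * v p.1).sum := by
  obtain ⟨hl, hr⟩ := okMat_iff hg
  refine sum_rowFun_mul _ (fun p hp => ?_) v
  rw [List.getD_eq_getElem _ _ (by omega : (i : ℕ) < g.length)] at hp
  exact (hr _ (List.getElem_mem _)).2 p hp

theorem pword_spec {n B R : ℕ} {gs : List (List (List (ℕ × ℕ)))} (w : List ℕ)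
    (hg : ∀ a ∈ w, okMat n R (gs.getD a []) = true) :
    (∀ i : Fin n, (pword n B gs w).getD i 0 = ∑ j : Fin n, natWord n gs w i j * B ^ (j : ℕ)) ∧
      (∀ i : Fin n, ∑ j : Fin n, natWord n gs w i j ≤ R ^ w.length) := by
  induction w with
  | nil =>
    constructor
    · intro i
      simp [pword, natWord, Matrix.one_apply, List.getD_eq_getElem?_getD]
    · intro i
      simp [natWord, Matrix.one_apply]
  | cons a w ih =>
    obtain ⟨ih1, ih2⟩ := ih fun b hb => hg b (List.mem_cons_of_mem _ hb)
    have ha := hg a (List.mem_cons_self ..)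
    obtain ⟨hl, hr⟩ := okMat_iff ha
    have e : natWord n gs (a :: w) = natMat n (gs.getD a []) * natWord n gs w := by simp [natWord]
    constructor
    · intro i
      have hi : (i : ℕ) < (gs.getD a []).length := by omega
      simp only [e, Matrix.mul_apply, Finset.sum_mul]
      rw [Finset.sum_comm]
      simp only [mul_assoc, ← Finset.mul_sum, ← ih1]
      rw [natMat_mul_sum ha i fun k => (pword n B gs w).getD k 0]
      change (matApp (gs.getD a []) (pword n B gs w)).getD i 0 = _
      unfold matApp rowApp
      rw [List.getD_eq_getElem _ _ (by simpa using hi), List.getD_eq_getElem _ _ hi, List.getElem_map]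
    · intro i
      have hi : (i : ℕ) < (gs.getD a []).length := by omega
      simp only [e, Matrix.mul_apply]
      rw [Finset.sum_comm]
      simp only [← Finset.mul_sum]
      calc _ ≤ ∑ j : Fin n, natMat n (gs.getD a []) i j * R ^ w.length :=
            Finset.sum_le_sum fun j _ => Nat.mul_le_mul_left _ (ih2 j)
        _ = ((((gs.getD a []).getD i []).map fun p => p.2 * R ^ w.length)).sum :=
            natMat_mul_sum ha i fun _ => R ^ w.length
        _ = wsum ((gs.getD a []).getD i []) * R ^ w.length := by rw [wsum, List.sum_map_mul_right]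
        _ ≤ R * R ^ w.length := by
            refine Nat.mul_le_mul_right _ ?_
            rw [List.getD_eq_getElem _ _ hi]
            exact (hr _ (List.getElem_mem _)).1
        _ = R ^ (a :: w).length := by simp [pow_succ, mul_comm]

theorem digit_eq {n B : ℕ} (f : Fin n → ℕ) (hf : ∀ j, f j < B) (j : Fin n) :
    (∑ k : Fin n, f k * B ^ (k : ℕ)) / B ^ (j : ℕ) % B = f j := by
  induction n with
  | zero => exact j.elim0
  | succ n ih =>
    have hB : 0 < B := lt_of_le_of_lt (Nat.zero_le _) (hf 0)
    rw [Fin.sum_univ_succ]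
    have e : ∑ k : Fin n, f k.succ * B ^ ((k.succ : Fin (n+1)) : ℕ) =
        B * ∑ k : Fin n, f k.succ * B ^ (k : ℕ) := by
      rw [Finset.mul_sum]
      exact Finset.sum_congr rfl fun k _ => by simp [pow_succ]; ring
    rw [e]
    induction j using Fin.cases with
    | zero => simp [Nat.add_mul_mod_self_left, Nat.mod_eq_of_lt (hf 0)]
    | succ j =>
      simp only [Fin.val_succ, pow_succ', Fin.val_zero, pow_zero, mul_one]
      rw [← Nat.div_div_eq_div_mul, Nat.add_mul_div_left _ _ hB, Nat.div_eq_of_lt (hf 0), zero_add]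
      exact ih (fun k => f k.succ) (fun k => hf k.succ) j

/-- The matrix over the integers modulo `p`. -/
def modMat (n p : ℕ) (g : List (List (ℕ × ℕ))) : Matrix (Fin n) (Fin n) (ZMod p) :=
  (natMat n g).map (Nat.castRingHom (ZMod p))

theorem modWord_eq_one {n p R : ℕ} {gs : List (List (List (ℕ × ℕ)))} (w : List ℕ)
    (hg : ∀ a ∈ w, okMat n R (gs.getD a []) = true) (h : checkWord n p R gs w = true) :
    (w.map fun a => modMat n p (gs.getD a [])).prod = 1 := by
  obtain ⟨h1, h2⟩ := pword_spec (B := R ^ w.length + 1) w hg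
  have e : (w.map fun a => modMat n p (gs.getD a [])).prod =
      (Nat.castRingHom (ZMod p)).mapMatrix (natWord n gs w) := by
    rw [natWord, map_list_prod, List.map_map]
    rfl
  rw [e]
  ext i j
  have hd := digit_eq (fun k => natWord n gs w i k)
    (fun k => Nat.lt_succ_of_le (le_trans (Finset.single_le_sum (fun k _ => Nat.zero_le _)
      (Finset.mem_univ k)) (h2 i))) j
  rw [← h1 i] at hd
  simp only [checkWord, isOne, List.all_eq_true, List.mem_range, beq_iff_eq] at h
  have hij := h i i.2 j j.2
  rw [hd] at hij
  rw [RingHom.mapMatrix_apply, Matrix.map_apply, Nat.coe_castRingHom, ← ZMod.natCast_mod, hij,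
    Matrix.one_apply]
  by_cases hc : i = j
  · subst hc; simp [ZMod.natCast_mod]
  · have : (i : ℕ) ≠ (j : ℕ) := fun hh => hc (Fin.ext hh)
    simp [hc, this]

end Cfsg.Agent.FischerLinear
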